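import Mathlib
import Cfsg.Agent.Lib.Helper68.ReeCube.Defs

set_option autoImplicit false

/-!
# [GAM] the spectrum of `PSL₂(q) × C₂`, `q = 3^(2m+1)`
-/

namespace Cfsg.Agent.Lib.Helper15.ReeCube

open Cfsg.Agent.Lib.Helper68.ReeCube

universe u

theorem three_pow_mod_eight (m : ℕ) : 3 ^ (2 * m + 1) % 8 = 3 := by
  rw [pow_succ, pow_mul, Nat.mul_mod, Nat.pow_mod]
  norm_num

theorem charP_three_of_card' {K : Type*} [Field K] [Fintype K] {n : ℕ}
    (hK : Fintype.card K = 3 ^ n) : CharP K 3 := by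
  obtain ⟨p, hp⟩ := CharP.exists K
  have := hp
  obtain ⟨k, hpp, hk⟩ := FiniteField.card K p
  have h1 : p ∣ 3 ^ n := by
    rw [← hK, hk]
    exact dvd_pow_self p k.ne_zero
  have h2 : p = 3 := (Nat.prime_dvd_prime_iff_eq hpp Nat.prime_three).mp (hpp.dvd_of_dvd_pow h1)
  rw [← h2]
  exact hp

theorem exists_unit_orderOf {d : ℕ} (hd : d ∣ 2) : ∃ ε : ℤˣ, orderOf ε = d := by
  rcases (Nat.dvd_prime Nat.prime_two).mp hd with rfl | rfl
  · exact ⟨1, orderOf_one⟩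
  · refine ⟨-1, orderOf_eq_prime ?_ ?_⟩
    · simp
    · decide

theorem unit_orderOf_dvd (ε : ℤˣ) : orderOf ε ∣ 2 :=
  orderOf_dvd_of_pow_eq_one (Int.units_sq ε)

theorem pkgGam : PkgGam.{u} := by
  intro F _ _ m hF d
  have : CharP F 3 := charP_three_of_card' hF
  have : Fact (Nat.Prime 3) := ⟨Nat.prime_three⟩
  have hspec := Cfsg.Agent.Lib.Helper41.psl2_spectrum (F := F) 3
  rw [hF] at hspec
  have hq8 := three_pow_mod_eight m
  obtain ⟨A, hA⟩ : ∃ A, 3 ^ (2 * m + 1) = 8 * A + 3 := ⟨3 ^ (2 * m + 1) / 8, by omega⟩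
  rw [hA] at hspec ⊢
  have hg : Nat.gcd 2 (8 * A + 3 - 1) = 2 := Nat.gcd_eq_left ⟨4 * A + 1, by omega⟩
  rw [hg] at hspec
  have h1 : (8 * A + 3 - 1) / 2 = 4 * A + 1 := by omega
  have h2 : (8 * A + 3 + 1) / 2 = 4 * A + 2 := by omega
  have h3 : 8 * A + 3 - 1 = 2 * (4 * A + 1) := by omega
  rw [h1, h2] at hspec
  rw [h2, h3]
  have hmem : ∀ k : ℕ, (∃ g : Matrix.ProjectiveSpecialLinearGroup (Fin 2) F, orderOf g = k) ↔
      (k ∣ 3 ∨ k ∣ 4 * A + 1 ∨ k ∣ 4 * A + 2) := by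
    intro k
    have := Set.ext_iff.mp hspec k
    simpa [Set.mem_range] using this
  constructor
  · rintro ⟨⟨g, ε⟩, rfl⟩
    rw [Prod.orderOf_mk]
    have hε := unit_orderOf_dvd ε
    rcases (hmem _).mp ⟨g, rfl⟩ with h | h | h
    · left
      exact Nat.lcm_dvd (h.trans (by norm_num)) (hε.trans (by norm_num))
    · right; left
      exact Nat.lcm_dvd (h.trans (Dvd.intro_left _ rfl)) (hε.trans (Dvd.intro _ rfl))
    · right; right
      exact Nat.lcm_dvd h (hε.trans ⟨2 * A + 1, by ring⟩)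
  · intro h
    have key : ∃ d1 d2, (d1 ∣ 3 ∨ d1 ∣ 4 * A + 1 ∨ d1 ∣ 4 * A + 2) ∧ d2 ∣ 2 ∧
        Nat.lcm d1 d2 = d := by
      rcases h with h | h | h
      · refine ⟨Nat.gcd d 3, Nat.gcd d 2, Or.inl (Nat.gcd_dvd_right _ _),
          Nat.gcd_dvd_right _ _, ?_⟩
        have hd6 : d ≤ 6 := Nat.le_of_dvd (by norm_num) h
        interval_cases d <;> first | rfl | (exfalso; revert h; decide)
      · by_cases hev : 2 ∣ d
        · obtain ⟨d', rfl⟩ := hev
          have hd' : d' ∣ 4 * A + 1 := (Nat.mul_dvd_mul_iff_left (by norm_num)).mp h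
          have hodd : Nat.Coprime d' 2 := by
            rw [Nat.coprime_comm, Nat.Prime.coprime_iff_not_dvd Nat.prime_two]
            intro h2d
            have := h2d.trans hd'
            omega
          exact ⟨d', 2, Or.inr (Or.inl hd'), dvd_rfl, by rw [hodd.lcm_eq_mul, mul_comm]⟩
        · have hcop : Nat.Coprime d 2 :=
            Nat.coprime_comm.mp ((Nat.Prime.coprime_iff_not_dvd Nat.prime_two).mpr hev)
          exact ⟨d, 1, Or.inr (Or.inl (hcop.dvd_of_dvd_mul_left h)), one_dvd _,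
            Nat.lcm_one_right d⟩
      · exact ⟨d, 1, Or.inr (Or.inr h), one_dvd _, Nat.lcm_one_right d⟩
    obtain ⟨d1, d2, h1', h2', rfl⟩ := key
    obtain ⟨g, hg'⟩ := (hmem d1).mpr h1'
    obtain ⟨ε, hε⟩ := exists_unit_orderOf h2'
    exact ⟨(g, ε), by rw [Prod.orderOf_mk, hg', hε]⟩

end Cfsg.Agent.Lib.Helper15.ReeCube
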